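import Mathlib.Algebra.MvPolynomial.Expand
import Mathlib.Algebra.MvPolynomial.Derivation
import Mathlib.Algebra.CharP.Two
import Mathlib.Algebra.CharP.Algebra
import Mathlib.RingTheory.Ideal.Span
import Mathlib.Tactic.LinearCombination
import Mathlib.Tactic.Ring

/-! `R[u,v]` as a free module over its squares, in characteristic two. -/

set_option autoImplicit false

open MvPolynomial

universe u

namespace Groth.Agent.Cusp8

variable {R : Type u} [CommRing R]

local notation "P2" => MvPolynomial (Fin 2) R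

/-- substitution of squares -/
noncomputable def E : P2 →ₐ[R] P2 := expand 2

theorem E_X (i : Fin 2) : E (X i : P2) = X i ^ 2 := expand_X 2 i

theorem E_C (r : R) : E (C r : P2) = C r := expand_C 2 r

theorem E_inj : Function.Injective (E (R := R)) := expand_injective (by norm_num)

theorem coeff_part (a : P2) (d d' m : Fin 2 →₀ ℕ) (hd : ∀ i, d i ≤ 1) (hd' : ∀ i, d' i ≤ 1) :
    coeff (2 • m + d) (E a * monomial d' (1 : R)) = if d = d' then coeff m a else 0 := by
  classical
  rw [coeff_mul_monomial', mul_one]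
  by_cases h : d = d'
  · subst h
    rw [if_pos le_add_self, if_pos rfl, add_tsub_cancel_right]
    rw [E, coeff_expand_smul (hp := two_ne_zero)]
  · rw [if_neg h]
    split_ifs with hle
    · rw [E]
      obtain ⟨i, hi⟩ : ∃ i, d i ≠ d' i := by
        by_contra! hh
        exact h (Finsupp.ext hh)
      rw [coeff_expand_of_not_dvd (i := i)]
      have h1 := hd i
      have h2 := hd' i
      have h3 := hle i
      simp only [Finsupp.coe_tsub, Finsupp.coe_add, Finsupp.coe_smul, Pi.sub_apply, Pi.add_apply, Pi.smul_apply,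
        smul_eq_mul] at h3 ⊢
      omega
    · rfl

theorem parts_zero {a0 a1 a2 a3 : P2}
    (h : E a0 + E a1 * X 0 + E a2 * X 1 + E a3 * (X 0 * X 1) = 0) : a0 = 0 ∧ a1 = 0 ∧ a2 = 0 ∧ a3 = 0 := by
  classical
  set e0 : Fin 2 →₀ ℕ := Finsupp.single 0 1
  set e1 : Fin 2 →₀ ℕ := Finsupp.single 1 1
  have x0 : (X 0 : P2) = monomial e0 1 := rfl
  have x1 : (X 1 : P2) = monomial e1 1 := rfl
  have x01 : (X 0 * X 1 : P2) = monomial (e0 + e1) 1 := by rw [x0, x1, monomial_mul, mul_one]
  have x00 : (E a0 : P2) = E a0 * monomial 0 1 := by simp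
  have l0 : ∀ i, (0 : Fin 2 →₀ ℕ) i ≤ 1 := fun i => by simp
  have l1 : ∀ i, e0 i ≤ 1 := fun i => by fin_cases i <;> simp [e0]
  have l2 : ∀ i, e1 i ≤ 1 := fun i => by fin_cases i <;> simp [e1]
  have l3 : ∀ i, (e0 + e1) i ≤ 1 := fun i => by fin_cases i <;> simp [e0, e1]
  have n01 : (0 : Fin 2 →₀ ℕ) ≠ e0 := fun h => by simpa [e0] using DFunLike.congr_fun h 0
  have n02 : (0 : Fin 2 →₀ ℕ) ≠ e1 := fun h => by simpa [e1] using DFunLike.congr_fun h 1
  have n03 : (0 : Fin 2 →₀ ℕ) ≠ e0 + e1 := fun h => by simpa [e0, e1] using DFunLike.congr_fun h 0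
  have n12 : e0 ≠ e1 := fun h => by simpa [e0, e1] using DFunLike.congr_fun h 0
  have n13 : e0 ≠ e0 + e1 := fun h => by simpa [e0, e1] using DFunLike.congr_fun h 1
  have n23 : e1 ≠ e0 + e1 := fun h => by simpa [e0, e1] using DFunLike.congr_fun h 0
  rw [x01, x0, x1, x00] at h
  refine ⟨ext _ _ fun m => ?_, ext _ _ fun m => ?_, ext _ _ fun m => ?_, ext _ _ fun m => ?_⟩
  · have hc := congrArg (coeff (2 • m + 0)) h
    simp only [coeff_add, coeff_part _ _ _ _ l0 l0, coeff_part _ _ _ _ l0 l1, coeff_part _ _ _ _ l0 l2,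
      coeff_part _ _ _ _ l0 l3, coeff_zero, if_neg n01, if_neg n02, if_neg n03] at hc
    simpa using hc
  · have hc := congrArg (coeff (2 • m + e0)) h
    simp only [coeff_add, coeff_part _ _ _ _ l1 l0, coeff_part _ _ _ _ l1 l1, coeff_part _ _ _ _ l1 l2,
      coeff_part _ _ _ _ l1 l3, coeff_zero, if_neg n01.symm, if_neg n12, if_neg n13] at hc
    simpa using hc
  · have hc := congrArg (coeff (2 • m + e1)) h
    simp only [coeff_add, coeff_part _ _ _ _ l2 l0, coeff_part _ _ _ _ l2 l1, coeff_part _ _ _ _ l2 l2,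
      coeff_part _ _ _ _ l2 l3, coeff_zero, if_neg n02.symm, if_neg n12.symm, if_neg n23] at hc
    simpa using hc
  · have hc := congrArg (coeff (2 • m + (e0 + e1))) h
    simp only [coeff_add, coeff_part _ _ _ _ l3 l0, coeff_part _ _ _ _ l3 l1, coeff_part _ _ _ _ l3 l2,
      coeff_part _ _ _ _ l3 l3, coeff_zero, if_neg n03.symm, if_neg n13.symm, if_neg n23.symm] at hc
    simpa using hc

theorem exists_parts (a : P2) : ∃ a0 a1 a2 a3, a = E a0 + E a1 * X 0 + E a2 * X 1 + E a3 * (X 0 * X 1) := by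
  induction a using MvPolynomial.induction_on with
  | C r => exact ⟨C r, 0, 0, 0, by simp [E_C]⟩
  | add p q hp hq =>
    obtain ⟨a0, a1, a2, a3, rfl⟩ := hp
    obtain ⟨b0, b1, b2, b3, rfl⟩ := hq
    exact ⟨a0 + b0, a1 + b1, a2 + b2, a3 + b3, by simp only [map_add]; ring⟩
  | mul_X p i hp =>
    obtain ⟨a0, a1, a2, a3, rfl⟩ := hp
    fin_cases i
    · exact ⟨X 0 * a1, a0, X 0 * a3, a2, by simp only [map_mul, E_X, Fin.zero_eta]; ring⟩
    · exact ⟨X 1 * a2, X 1 * a3, a0, a1, by simp only [map_mul, E_X, Fin.mk_one]; ring⟩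

variable [CharP R 2]

theorem two_eq_zero : (2 : P2) = 0 := by
  have : ((2 : ℕ) : P2) = 0 := CharP.cast_eq_zero P2 2
  exact_mod_cast this

theorem deriv_E (D : Derivation R P2 P2) (p : P2) : D (E p) = 0 := by
  induction p using MvPolynomial.induction_on with
  | C r => rw [E_C, ← algebraMap_eq, Derivation.map_algebraMap]
  | add p q hp hq => rw [map_add, map_add, hp, hq, add_zero]
  | mul_X p i hp =>
    rw [map_mul, E_X, Derivation.leibniz, hp, pow_two, Derivation.leibniz, smul_eq_mul, smul_eq_mul, smul_eq_mul]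
    linear_combination (E p * (X i * D (X i))) * two_eq_zero (R := R)

theorem deriv_parts (D : Derivation R P2 P2) (a0 a1 a2 a3 : P2) :
    D (E a0 + E a1 * X 0 + E a2 * X 1 + E a3 * (X 0 * X 1)) =
      E a1 * D (X 0) + E a2 * D (X 1) + E a3 * (X 0 * D (X 1) + X 1 * D (X 0)) := by
  simp only [map_add, Derivation.leibniz, deriv_E, smul_eq_mul, mul_zero, add_zero, zero_add]

/-- kernel of `(x, y, z) ↦ (u², v², g)` -/
theorem ker_eq (g : P2) (h : P2) (hg : g ^ 2 = E h)
    (hfree : ∀ p0 p1 : P2, E p0 + E p1 * g = 0 → p0 = 0 ∧ p1 = 0) :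
    RingHom.ker (aeval (R := R) (S₁ := P2) ![X 0 ^ 2, X 1 ^ 2, g]) =
      Ideal.span {(X 2 ^ 2 + rename Fin.castSucc h : MvPolynomial (Fin 3) R)} := by
  set φ := aeval (R := R) (S₁ := P2) ![X 0 ^ 2, X 1 ^ 2, g]
  set ι : P2 →ₐ[R] MvPolynomial (Fin 3) R := rename Fin.castSucc
  have hι : ∀ p : P2, φ (ι p) = E p := fun p => by
    have : φ.comp ι = E := MvPolynomial.algHom_ext fun i => by
      rw [AlgHom.comp_apply, rename_X, E_X, aeval_X]
      fin_cases i <;> rfl
    exact AlgHom.congr_fun this p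
  have hz : φ (X 2) = g := by rw [aeval_X]; rfl
  set rel : MvPolynomial (Fin 3) R := X 2 ^ 2 + ι h
  have hrel : φ rel = 0 := by
    rw [map_add, map_pow, hz, hι, hg]
    linear_combination (E h) * two_eq_zero (R := R)
  refine le_antisymm (fun p hp => ?_) (Ideal.span_le.2 (Set.singleton_subset_iff.2 hrel))
  obtain ⟨p0, p1, hm⟩ : ∃ p0 p1 : P2, p - (ι p0 + ι p1 * X 2) ∈ Ideal.span {rel} := by
    clear hp
    induction p using MvPolynomial.induction_on with
    | C r => exact ⟨C r, 0, by simp [ι]⟩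
    | add p q hp hq =>
      obtain ⟨a, b, h1⟩ := hp
      obtain ⟨c, d, h2⟩ := hq
      refine ⟨a + c, b + d, ?_⟩
      convert Ideal.add_mem _ h1 h2 using 1
      rw [map_add, map_add]; ring
    | mul_X p i hp =>
      obtain ⟨a, b, h1⟩ := hp
      fin_cases i
      · refine ⟨a * X 0, b * X 0, ?_⟩
        convert Ideal.mul_mem_right (X 0) _ h1 using 1
        simp only [map_mul, ι, rename_X, Fin.castSucc_zero, Fin.zero_eta]; ring
      · refine ⟨a * X 1, b * X 1, ?_⟩
        convert Ideal.mul_mem_right (X 1) _ h1 using 1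
        simp only [map_mul, ι, rename_X, Fin.castSucc_one, Fin.mk_one]; ring
      · refine ⟨-(b * h), a, ?_⟩
        convert Ideal.add_mem _ (Ideal.mul_mem_right (X 2) _ h1) (Ideal.mul_mem_left _ (ι b) (Ideal.mem_span_singleton_self rel)) using 1
        simp only [map_neg, map_mul, rel, Fin.reduceFinMk]; ring
  have h0 : φ (ι p0 + ι p1 * X 2) = 0 := by
    obtain ⟨t, ht⟩ := Ideal.mem_span_singleton'.1 hm
    have := congrArg φ ht
    rw [map_sub, map_mul, hrel, mul_zero, show φ p = 0 from hp, zero_sub, eq_comm, neg_eq_zero] at this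
    exact this
  rw [map_add, map_mul, hι, hι, hz] at h0
  obtain ⟨rfl, rfl⟩ := hfree _ _ h0
  simpa using hm

end Groth.Agent.Cusp8
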